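import Groth.Agent.Lib.EtSite.Sheaf
import Groth.Agent.Lib.SchDesc12.Descend
import Mathlib.AlgebraicGeometry.Sites.Fpqc

/-!
# Gluing sections and morphisms on the small étale site
-/

universe w u

set_option autoImplicit false
set_option linter.style.haveILetI false

open CategoryTheory CategoryTheory.Limits AlgebraicGeometry Opposite

namespace Groth.Agent.EtRep3

open Groth.Agent.EtSite

variable {X : Scheme.{u}}

theorem etale_left {V W : X.Etale} (f : V ⟶ W) : AlgebraicGeometry.Etale f.left := by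
  have : AlgebraicGeometry.Etale (f.left ≫ W.hom) := by rw [MorphismProperty.Over.w f]; exact V.prop
  have : AlgebraicGeometry.Etale W.hom := W.prop
  exact Etale.of_comp f.left W.hom

/-- Jointly surjective families of étale morphisms are fpqc coverings. -/
theorem mem_fpqc_of_etale {T : Scheme.{u}} {κ : Type u} {Y : κ → Scheme.{u}} (q : ∀ k, Y k ⟶ T)
    (hq : ∀ k, AlgebraicGeometry.Etale (q k)) (hs : ∀ t : T, ∃ k, t ∈ Set.range (q k)) :
    Presieve.ofArrows Y q ∈ Scheme.fpqcPrecoverage T := by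
  refine Scheme.fppfPrecoverage_le_fpqcPrecoverage _ ?_
  rw [Scheme.fppfPrecoverage, Scheme.ofArrows_mem_precoverage_iff]
  exact ⟨hs, fun k => by haveI := hq k; exact ⟨inferInstance, inferInstance⟩⟩

/-- Morphisms of étale schemes are glued on coverings. -/
theorem existsUnique_hom {W E : X.Etale} {κ : Type u} (Y : κ → X.Etale) (q : ∀ k, Y k ⟶ W)
    (hs : ∀ t : W.left, ∃ k, t ∈ Set.range (q k).left) (g : ∀ k, Y k ⟶ E)
    (h : ∀ k l (Z : Scheme.{u}) (a : Z ⟶ (Y k).left) (b : Z ⟶ (Y l).left),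
      a ≫ (q k).left = b ≫ (q l).left → a ≫ (g k).left = b ≫ (g l).left) :
    ∃! G : W ⟶ E, ∀ k, q k ≫ G = g k := by
  have hm := mem_fpqc_of_etale (fun k => (q k).left) (fun k => etale_left (q k)) hs
  obtain ⟨G, hG⟩ := SchDesc12.exists_hom_fpqc (fun k => (q k).left) hm (fun k => (g k).left) h
  have hw : G ≫ E.hom = W.hom := by
    refine SchDesc12.hom_ext_fpqc (fun k => (q k).left) hm fun k => ?_
    rw [← Category.assoc, hG, MorphismProperty.Over.w, MorphismProperty.Over.w]
  refine ⟨MorphismProperty.Over.homMk G hw, fun k => MorphismProperty.Over.Hom.ext (hG k), fun G' hG' => ?_⟩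
  refine MorphismProperty.Over.Hom.ext (SchDesc12.hom_ext_fpqc (fun k => (q k).left) hm fun k => ?_)
  exact (congrArg (fun m => m.left) (hG' k)).trans (hG k).symm

theorem hom_ext_cover {W E : X.Etale} {κ : Type u} (Y : κ → X.Etale) (q : ∀ k, Y k ⟶ W)
    (hs : ∀ t : W.left, ∃ k, t ∈ Set.range (q k).left) (G G' : W ⟶ E)
    (h : ∀ k, q k ≫ G = q k ≫ G') : G = G' := by
  refine MorphismProperty.Over.Hom.ext (SchDesc12.hom_ext_fpqc (fun k => (q k).left)
    (mem_fpqc_of_etale (fun k => (q k).left) (fun k => etale_left (q k)) hs) fun k => ?_)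
  exact congrArg (fun m => m.left) (h k)

variable {P : X.Etaleᵒᵖ ⥤ Type w} (hP : Presieve.IsSheaf X.smallEtaleTopology P)

include hP

/-- Sections are glued on coverings. -/
theorem existsUnique_sect {W : X.Etale} {κ : Type*} (Y : κ → X.Etale) (q : ∀ k, Y k ⟶ W)
    (hs : ∀ t : W.left, ∃ k, t ∈ Set.range (q k).left) (s : ∀ k, P.obj (op (Y k)))
    (h : ∀ k l (Z : X.Etale) (a : Z ⟶ Y k) (b : Z ⟶ Y l),
      a ≫ q k = b ≫ q l → P.map a.op (s k) = P.map b.op (s l)) :
    ∃! t : P.obj (op W), ∀ k, P.map (q k).op t = s k := by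
  have hc : Sieve.ofArrows Y q ∈ X.smallEtaleTopology W := by
    rw [mem_et_iff]
    intro t
    obtain ⟨k, y, hy⟩ := hs t
    exact ⟨Y k, q k, y, Sieve.ofArrows_mk Y q k, hy⟩
  have hf : Presieve.IsSheafFor P (Presieve.ofArrows Y q) :=
    (Presieve.isSheafFor_iff_generate _).2 (hP _ hc)
  exact (Presieve.isSheafFor_arrows_iff _ _).1 hf s fun k l Z a b hab => h k l Z a b hab

theorem sect_ext {W : X.Etale} {κ : Type*} (Y : κ → X.Etale) (q : ∀ k, Y k ⟶ W)
    (hs : ∀ t : W.left, ∃ k, t ∈ Set.range (q k).left) (t t' : P.obj (op W))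
    (h : ∀ k, P.map (q k).op t = P.map (q k).op t') : t = t' := by
  refine (existsUnique_sect hP Y q hs (fun k => P.map (q k).op t) fun k l Z a b hab => ?_).unique
    (fun k => rfl) fun k => (h k).symm
  rw [map_map, map_map, hab]

theorem subsingleton_sect {W : X.Etale} (h : IsEmpty W.left) : Subsingleton (P.obj (op W)) :=
  ⟨fun t t' => sect_ext hP (κ := PEmpty.{1}) PEmpty.elim (fun k => k.elim) (fun x => h.elim x) t t'
    fun k => k.elim⟩

omit hP in
theorem hom_eq_of_isEmpty {W E : X.Etale} (h : IsEmpty W.left) (a b : W ⟶ E) : a = b :=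
  MorphismProperty.Over.Hom.ext (SchDesc12.hom_eq_of_isEmpty h a.left b.left)

end Groth.Agent.EtRep3
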