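import Groth.Agent.Lib.EtRep3.Local
import Groth.Agent.Lib.SchDesc12.Effective
import Groth.Agent.Lib.FpqcDesc.Basic
import Mathlib.AlgebraicGeometry.Morphisms.LocalFlatDescent
import Groth.Agent.Lib.HTop25.Basic

/-!
# Locally finite sheaves on the small étale site are represented by finite étale schemes
-/

universe w u

set_option autoImplicit false
set_option linter.style.haveILetI false
set_option backward.isDefEq.respectTransparency false
set_option backward.isDefEq.respectTransparency.types false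

open CategoryTheory CategoryTheory.Limits AlgebraicGeometry Opposite

namespace Groth.Agent.EtRep3

open Groth.Agent.EtSite

variable {X : Scheme.{u}}

/-- The fibre product over `X` of two étale `X`-schemes. -/
noncomputable def prd (A B : X.Etale) : X.Etale :=
  MorphismProperty.Over.mk ⊤ (pullback.snd A.hom B.hom ≫ B.hom)
    (MorphismProperty.comp_mem _ _ _ (MorphismProperty.pullback_snd _ _ A.prop) B.prop)

noncomputable def p1 (A B : X.Etale) : prd A B ⟶ A :=
  MorphismProperty.Over.homMk (pullback.fst A.hom B.hom) pullback.condition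

noncomputable def p2 (A B : X.Etale) : prd A B ⟶ B :=
  MorphismProperty.Over.homMk (pullback.snd A.hom B.hom) rfl

noncomputable def prdLift {Z A B : X.Etale} (a : Z ⟶ A) (b : Z ⟶ B) : Z ⟶ prd A B :=
  MorphismProperty.Over.homMk
    (pullback.lift a.left b.left ((MorphismProperty.Over.w a).trans (MorphismProperty.Over.w b).symm)) (by
      show pullback.lift _ _ _ ≫ pullback.snd _ _ ≫ B.hom = Z.hom
      rw [pullback.lift_snd_assoc]; exact MorphismProperty.Over.w b)

theorem prdLift_p1 {Z A B : X.Etale} (a : Z ⟶ A) (b : Z ⟶ B) : prdLift a b ≫ p1 A B = a :=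
  MorphismProperty.Over.Hom.ext (pullback.lift_fst _ _ _)

theorem prdLift_p2 {Z A B : X.Etale} (a : Z ⟶ A) (b : Z ⟶ B) : prdLift a b ≫ p2 A B = b :=
  MorphismProperty.Over.Hom.ext (pullback.lift_snd _ _ _)

/-- The disjoint union of a finite number of identities is finite. -/
theorem isFinite_proj (U : X.Etale) (n : ℕ) : IsFinite (proj U n).left := by
  exact HTop25.isFinite_sigmaDesc fun _ : ULift.{u} (Fin n) => 𝟙 U.left

variable {P : X.Etaleᵒᵖ ⥤ Type w} {ι : Type u} (U : ι → X.Etale) (E : ι → X.Etale)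
  (π : ∀ i, E i ⟶ U i) (s : ∀ i, P.obj (op (E i)))

/-- `E i` represents maps to `U i` together with a section. -/
def IsLocalRep : Prop :=
  ∀ (i : ι) (W : X.Etale) (a : W ⟶ U i) (t : P.obj (op W)),
    ∃! b : W ⟶ E i, b ≫ π i = a ∧ P.map b.op (s i) = t

variable {U E π s} (hrep : IsLocalRep U E π s)

/-- The transition from `E i` to `E j`. -/
noncomputable def trn (i j : ι) : prd (E i) (U j) ⟶ E j :=
  (hrep j _ (p2 (E i) (U j)) (P.map (p1 (E i) (U j)).op (s i))).exists.choose

theorem trn_π (i j : ι) : trn hrep i j ≫ π j = p2 (E i) (U j) :=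
  (hrep j _ (p2 (E i) (U j)) (P.map (p1 (E i) (U j)).op (s i))).exists.choose_spec.1

theorem trn_sect (i j : ι) : P.map (trn hrep i j).op (s j) = P.map (p1 (E i) (U j)).op (s i) :=
  (hrep j _ (p2 (E i) (U j)) (P.map (p1 (E i) (U j)).op (s i))).exists.choose_spec.2

include hrep in
theorem rep_ext {i : ι} {W : X.Etale} (b b' : W ⟶ E i) (h : b ≫ π i = b' ≫ π i)
    (h' : P.map b.op (s i) = P.map b'.op (s i)) : b = b' :=
  (hrep i W (b' ≫ π i) (P.map b'.op (s i))).unique ⟨h, h'⟩ ⟨rfl, rfl⟩

theorem lift_trn_eq {Z : X.Etale} {i j : ι} (a : Z ⟶ E i) (b : Z ⟶ E j)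
    (h : P.map a.op (s i) = P.map b.op (s j)) : prdLift a (b ≫ π j) ≫ trn hrep i j = b := by
  refine rep_ext hrep _ _ ?_ ?_
  · rw [Category.assoc, trn_π, prdLift_p2]
  · rw [← map_map, trn_sect, map_map, prdLift_p1, h]

theorem trn_self (i : ι) : prdLift (𝟙 (E i)) (π i) ≫ trn hrep i i = 𝟙 (E i) := by
  have := lift_trn_eq hrep (𝟙 (E i)) (𝟙 (E i)) rfl
  rwa [Category.id_comp] at this

theorem trn_trans (i j k : ι) :
    prdLift (p1 (prd (E i) (U j)) (U k) ≫ trn hrep i j) (p2 (prd (E i) (U j)) (U k)) ≫ trn hrep j k =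
      prdLift (p1 (prd (E i) (U j)) (U k) ≫ p1 (E i) (U j)) (p2 (prd (E i) (U j)) (U k)) ≫ trn hrep i k := by
  refine rep_ext hrep _ _ ?_ ?_
  · rw [Category.assoc, Category.assoc, trn_π, trn_π, prdLift_p2, prdLift_p2]
  · rw [← map_map, trn_sect, ← map_map, trn_sect, map_map, prdLift_p1, map_map, prdLift_p1, ← map_map,
      trn_sect, map_map]

/-- The underlying transition on points. -/
noncomputable def ptMap {T : Scheme.{u}} {i j : ι} (x₀ : T ⟶ (U i).left) (x₁ : T ⟶ (U j).left)
    (h : x₀ ≫ (U i).hom = x₁ ≫ (U j).hom) (v : Desc.Lifts (Over.mk (π i).left) x₀) :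
    Desc.Lifts (Over.mk (π j).left) x₁ :=
  ⟨pullback.lift v.1 x₁ (by
      have e : v.1 ≫ (π i).left = x₀ := v.2
      rw [← MorphismProperty.Over.w (π i), ← Category.assoc, e, h]) ≫ (trn hrep i j).left, by
    show (_ ≫ _) ≫ (π j).left = x₁
    rw [Category.assoc, show (trn hrep i j).left ≫ (π j).left = pullback.snd (E i).hom (U j).hom from
      congrArg (fun f => f.left) (trn_π hrep i j), pullback.lift_snd]⟩

theorem ptMap_self {T : Scheme.{u}} {i : ι} (x : T ⟶ (U i).left) (v : Desc.Lifts (Over.mk (π i).left) x) :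
    ptMap hrep x x rfl v = v := by
  refine Subtype.ext ?_
  have e : v.1 ≫ (π i).left = x := v.2
  have h : (prdLift (𝟙 (E i)) (π i)).left ≫ (trn hrep i i).left = 𝟙 _ :=
    congrArg (fun f => f.left) (trn_self hrep i)
  refine Eq.trans ?_ ((congrArg (v.1 ≫ ·) h).trans (Category.comp_id _))
  show _ ≫ _ = v.1 ≫ _ ≫ _
  rw [← Category.assoc]
  refine congrArg (· ≫ (trn hrep i i).left) (pullback.hom_ext ?_ ?_)
  · show _ = (v.1 ≫ pullback.lift _ _ _) ≫ _
    rw [pullback.lift_fst, Category.assoc, pullback.lift_fst]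
    exact (Category.comp_id _).symm
  · show _ = (v.1 ≫ pullback.lift _ _ _) ≫ _
    rw [pullback.lift_snd, Category.assoc, pullback.lift_snd, e]

theorem ptMap_comp {T : Scheme.{u}} {i j k : ι} (x₀ : T ⟶ (U i).left) (x₁ : T ⟶ (U j).left)
    (x₂ : T ⟶ (U k).left) (h₀₁ : x₀ ≫ (U i).hom = x₁ ≫ (U j).hom) (h₁₂ : x₁ ≫ (U j).hom = x₂ ≫ (U k).hom)
    (v : Desc.Lifts (Over.mk (π i).left) x₀) :
    ptMap hrep x₁ x₂ h₁₂ (ptMap hrep x₀ x₁ h₀₁ v) = ptMap hrep x₀ x₂ (h₀₁.trans h₁₂) v := by
  refine Subtype.ext ?_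
  have e : v.1 ≫ (π i).left = x₀ := v.2
  have hv : v.1 ≫ (E i).hom = x₁ ≫ (U j).hom := by
    rw [← MorphismProperty.Over.w (π i), ← Category.assoc, e, h₀₁]
  let t : T ⟶ (prd (prd (E i) (U j)) (U k)).left := pullback.lift (pullback.lift v.1 x₁ hv) x₂ (by
    show _ ≫ pullback.snd _ _ ≫ (U j).hom = _
    rw [pullback.lift_snd_assoc, h₁₂])
  have h := congrArg (fun f => t ≫ f.left) (trn_trans hrep i j k)
  refine Eq.trans ?_ (h.trans ?_)
  · show _ ≫ _ = t ≫ _ ≫ _
    rw [← Category.assoc t]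
    refine congrArg (· ≫ (trn hrep j k).left) (pullback.hom_ext ?_ ?_)
    · show _ = (t ≫ pullback.lift _ _ _) ≫ _
      rw [pullback.lift_fst, Category.assoc, pullback.lift_fst]
      show _ = t ≫ pullback.fst _ _ ≫ _
      rw [pullback.lift_fst_assoc]
      rfl
    · show _ = (t ≫ pullback.lift _ _ _) ≫ _
      rw [pullback.lift_snd, Category.assoc, pullback.lift_snd]
      exact (pullback.lift_snd _ _ _).symm
  · show t ≫ _ ≫ _ = _ ≫ _
    rw [← Category.assoc t]
    refine congrArg (· ≫ (trn hrep i k).left) (pullback.hom_ext ?_ ?_)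
    · show (t ≫ pullback.lift _ _ _) ≫ _ = _
      rw [pullback.lift_fst, Category.assoc, pullback.lift_fst]
      show t ≫ pullback.fst _ _ ≫ pullback.fst _ _ = _
      rw [pullback.lift_fst_assoc, pullback.lift_fst]
    · show (t ≫ pullback.lift _ _ _) ≫ _ = _
      rw [pullback.lift_snd, Category.assoc, pullback.lift_snd]
      exact pullback.lift_snd _ _ _

/-- The descent datum of the local representing schemes. -/
noncomputable def datum : Desc.SchDDFam (fun i => (U i).hom) where
  obj i := Over.mk (π i).left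
  φ T i j x₀ x₁ h :=
    { toFun := ptMap hrep x₀ x₁ h
      invFun := ptMap hrep x₁ x₀ h.symm
      left_inv := fun v => (ptMap_comp hrep x₀ x₁ x₀ h h.symm v).trans (ptMap_self hrep x₀ v)
      right_inv := fun v => (ptMap_comp hrep x₁ x₀ x₁ h.symm h v).trans (ptMap_self hrep x₁ v) }
  φ_natural T T' g i j x₀ x₁ h y₀ y₁ hy₀ hy₁ h' v v' hv' := by
    show pullback.lift v'.1 y₁ _ ≫ _ = g ≫ pullback.lift v.1 x₁ _ ≫ _
    rw [← Category.assoc g]
    refine congrArg (· ≫ (trn hrep i j).left) (pullback.hom_ext ?_ ?_)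
    · rw [pullback.lift_fst, Category.assoc, pullback.lift_fst, hv']
    · rw [pullback.lift_snd, Category.assoc, pullback.lift_snd, hy₁]
  φ_self T i x v := ptMap_self hrep x v
  φ_comp T i j k x₀ x₁ x₂ h₀₁ h₁₂ v := ptMap_comp hrep x₀ x₁ x₂ h₀₁ h₁₂ v

include hrep in
/-- The local representing schemes glue. -/
theorem exists_glued (hU : ∀ x : X, ∃ i, x ∈ Set.range (U i).hom) (hfin : ∀ i, IsFinite (π i).left) :
    ∃ (U₀ : X.Etale) (c : ∀ i, E i ⟶ U₀), IsFinite U₀.hom ∧
      (∀ i, IsPullback (π i).left (c i).left (U i).hom U₀.hom) ∧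
      (∀ i j, p1 (E i) (U j) ≫ c i = trn hrep i j ≫ c j) := by
  have hm := mem_fpqc_of_etale (fun i => (U i).hom) (fun i => (U i).prop) hU
  haveI := hfin
  obtain ⟨U₁, ⟨e⟩⟩ := SchDesc12.isEffective_of_isAffineHom (D := datum hrep) hm fun i =>
    (inferInstanceAs (IsAffineHom (π i).left))
  let ei : ∀ i, pullback (U i).hom U₁.hom ≅ (E i).left := fun i =>
    { hom := (e.hom.hom i).left
      inv := (e.inv.hom i).left
      hom_inv_id := congrArg (fun f => (f.hom i).left) e.hom_inv_id
      inv_hom_id := congrArg (fun f => (f.hom i).left) e.inv_hom_id }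
  have hei : ∀ i, (ei i).inv ≫ pullback.fst (U i).hom U₁.hom = (π i).left := fun i => Over.w (e.inv.hom i)
  let Q : MorphismProperty Scheme.{u} := @Surjective ⊓ @Flat ⊓ @LocallyOfFinitePresentation
  let p : (∐ fun i => (U i).left) ⟶ X := Sigma.desc fun i => (U i).hom
  haveI hpe : AlgebraicGeometry.Etale p := IsZariskiLocalAtSource.sigmaDesc fun i => (U i).prop
  haveI : Surjective p := ⟨fun x => by
    obtain ⟨i, y, hy⟩ := hU x
    exact ⟨Sigma.ι (fun i => (U i).left) i y, by rw [← Scheme.Hom.comp_apply, Sigma.ι_desc]; exact hy⟩⟩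
  have hQ : Q p := ⟨⟨inferInstance, inferInstance⟩, inferInstance⟩
  have hloc : ∀ R : MorphismProperty Scheme.{u}, IsZariskiLocalAtTarget R → (∀ i, R (π i).left) →
      R (pullback.fst p U₁.hom) := by
    intro R hR hπ
    refine (IsZariskiLocalAtTarget.iff_of_openCover (P := R) (sigmaOpenCover fun i => (U i).left)).2
      fun (i : ι) => ?_
    show R (pullback.snd (pullback.fst p U₁.hom) (Sigma.ι (fun i => (U i).left) i))
    have h1 : IsPullback (pullback.snd (pullback.fst p U₁.hom) (Sigma.ι (fun i => (U i).left) i))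
        (pullback.fst _ _ ≫ pullback.snd p U₁.hom) (U i).hom U₁.hom := by
      have := ((IsPullback.of_hasPullback (pullback.fst p U₁.hom) (Sigma.ι (fun i => (U i).left) i)).flip).paste_vert
        (IsPullback.of_hasPullback p U₁.hom)
      rwa [Sigma.ι_desc] at this
    rw [← h1.isoPullback_hom_fst, R.cancel_left_of_respectsIso,
      show pullback.fst (U i).hom U₁.hom = (ei i).hom ≫ (π i).left by rw [← hei, Iso.hom_inv_id_assoc]]
    exact (@MorphismProperty.cancel_left_of_respectsIso _ _ R _ _ _ _ (ei i).hom (π i).left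
      (Iso.isIso_hom (ei i))).2 (hπ i)
  haveI hU₁e : AlgebraicGeometry.Etale U₁.hom := by
    refine MorphismProperty.of_pullback_fst_of_descendsAlong (P := @AlgebraicGeometry.Etale) (Q := Q) hQ
      (hloc _ inferInstance fun i => ?_)
    exact etale_left (π i)
  have hU₁f : IsFinite U₁.hom := by
    haveI := Groth.Agent.FpqcDesc.descendsAlong_isFinite.{u}
    exact MorphismProperty.of_pullback_fst_of_descendsAlong (P := @IsFinite) (Q := Q) hQ
      (hloc _ inferInstance fun i => hfin i)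
  let U₀ : X.Etale := MorphismProperty.Over.mk ⊤ U₁.hom hU₁e
  have hw : ∀ i, ((ei i).inv ≫ pullback.snd (U i).hom U₁.hom) ≫ U₁.hom = (E i).hom := fun i => by
    rw [Category.assoc, ← pullback.condition, ← Category.assoc, hei, MorphismProperty.Over.w]
  refine ⟨U₀, fun i => MorphismProperty.Over.homMk ((ei i).inv ≫ pullback.snd (U i).hom U₁.hom) (hw i),
    hU₁f, fun i => ?_, fun i j => ?_⟩
  · exact IsPullback.of_iso_pullback ⟨by
      show (π i).left ≫ (U i).hom = ((ei i).inv ≫ pullback.snd _ _) ≫ U₁.hom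
      rw [hw, MorphismProperty.Over.w]⟩ (ei i).symm (hei i) rfl
  · refine MorphismProperty.Over.Hom.ext ?_
    show pullback.fst (E i).hom (U j).hom ≫ (ei i).inv ≫ pullback.snd _ _ =
      (trn hrep i j).left ≫ (ei j).inv ≫ pullback.snd _ _
    let T := (prd (E i) (U j)).left
    let x₁ : T ⟶ (U j).left := pullback.snd (E i).hom (U j).hom
    let x₀ : T ⟶ (U i).left := pullback.fst (E i).hom (U j).hom ≫ (π i).left
    have h : x₀ ≫ (U i).hom = x₁ ≫ (U j).hom := by
      rw [Category.assoc, MorphismProperty.Over.w, pullback.condition]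
    let v : Desc.Lifts ((datum hrep).obj i) x₀ := ⟨pullback.fst (E i).hom (U j).hom, rfl⟩
    have hc := e.inv.comm x₀ x₁ h v ⟨v.1 ≫ (ei i).inv, by
      show (_ ≫ (ei i).inv) ≫ pullback.fst _ _ = _
      rw [Category.assoc, hei]⟩ rfl
    have hv : ((datum hrep).φ x₀ x₁ h v).1 = (trn hrep i j).left := by
      show pullback.lift _ _ _ ≫ _ = _
      conv_rhs => rw [← Category.id_comp (trn hrep i j).left]
      exact congrArg (· ≫ (trn hrep i j).left) (pullback.hom_ext (by rw [pullback.lift_fst, Category.id_comp])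
        (by rw [pullback.lift_snd, Category.id_comp]))
    rw [hv] at hc
    change pullback.lift x₁ ((v.1 ≫ (ei i).inv) ≫ pullback.snd (U i).hom U₁.hom) _ =
      (trn hrep i j).left ≫ (ei j).inv at hc
    rw [← Category.assoc (trn hrep i j).left, ← hc, pullback.lift_snd, Category.assoc]

end Groth.Agent.EtRep3
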