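import Groth.Agent.Lib.EtRep3.Main
import Groth.Agent.Lib.LocConst24.Basic

/-!
# Frames of finite locally constant abelian sheaves
-/

universe u

set_option autoImplicit false
set_option linter.style.haveILetI false
set_option backward.isDefEq.respectTransparency false
set_option backward.isDefEq.respectTransparency.types false

open CategoryTheory CategoryTheory.Limits AlgebraicGeometry Opposite

namespace Groth.Agent.EtRep3

open Groth.Agent.EtSite Groth.Agent.LocConst24

variable {X : Scheme.{u}}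

theorem isSheaf_forget (F : EtCoh.Ab X) :
    Presieve.IsSheaf X.smallEtaleTopology (F.obj ⋙ forget AddCommGrpCat.{u + 1}) :=
  (isSheaf_iff_isSheaf_of_type _ _).1
    ((Presheaf.isSheaf_iff_isSheaf_comp X.smallEtaleTopology F.obj (forget AddCommGrpCat.{u + 1})).1 F.property)

theorem exists_frame_of_triv {F : EtCoh.Ab X} {U : X.Etale} {M : Type} [AddCommGroup M] [Finite M]
    (θ : Triv F U M) :
    ∃ (n : ℕ) (t : Fin n → (F.obj ⋙ forget AddCommGrpCat.{u + 1}).obj (op U)), IsFrame t := by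
  let e := (Finite.equivFin (ULift.{u + 1} M)).symm
  refine ⟨_, fun m => rho θ (𝟙 U) (e m), ⟨fun W a hW m m' h => e.injective ?_, fun W a s x => ?_⟩⟩
  · change F.obj.map a.op (rho θ (𝟙 U) (e m)) = F.obj.map a.op (rho θ (𝟙 U) (e m')) at h
    rw [rho_res, rho_res] at h
    exact rho_injective θ _ hW h
  · obtain ⟨W', b, hb, m, hm⟩ := exists_rho θ a s x
    refine ⟨W', b, hb, e.symm m, ?_⟩
    show F.obj.map (b ≫ a).op (rho θ (𝟙 U) (e (e.symm m))) = F.obj.map b.op s
    rw [e.apply_symm_apply, rho_res, Category.comp_id, hm]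

theorem locFinite_of_flc {F : EtCoh.Ab X} (h : EtCoh.IsFiniteLocallyConstant F) :
    LocFinite (F.obj ⋙ forget AddCommGrpCat.{u + 1}) := by
  obtain ⟨ι, U, hU, hM⟩ := h
  refine ⟨ι, U, fun x => ?_, fun i => ?_⟩
  · obtain ⟨i, y, hy⟩ := hU x
    exact ⟨i, y, hy⟩
  · obtain ⟨M, _, _, ⟨θ⟩⟩ := hM i
    exact exists_frame_of_triv θ

/-- A finite locally constant sheaf is represented by a finite étale scheme. -/
theorem exists_rep_flc {F : EtCoh.Ab X} (h : EtCoh.IsFiniteLocallyConstant F) :
    ∃ (U₀ : X.Etale) (_ : IsFinite U₀.hom),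
      Nonempty (F.obj ⋙ forget AddCommGrpCat.{u + 1} ≅ yoneda.obj U₀ ⋙ uliftFunctor.{u + 1}) :=
  exists_iso (isSheaf_forget F) (locFinite_of_flc h)

end Groth.Agent.EtRep3
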