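import Groth.Agent.Lib.EtRep3.Main
import Groth.Prelude.Def_CohProp
import Groth.Prelude.Def_EtOpen

/-!
# Frames of finite locally constant sheaves of sets
-/

universe u

set_option autoImplicit false
set_option linter.style.haveILetI false
set_option backward.isDefEq.respectTransparency false
set_option backward.isDefEq.respectTransparency.types false

open CategoryTheory CategoryTheory.Limits AlgebraicGeometry Opposite

namespace Groth.Agent.EtRep3

open Groth.Agent.EtSite

variable {S : Scheme.{u}}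

theorem exists_frame_of_over {F : EtDesc.Sh S} {U : S.Etale} {M : Type (u + 1)} [Finite M]
    (θ : F.over U ≅ (CohProp.constSh S M).over U) :
    ∃ (n : ℕ) (t : Fin n → F.obj.obj (op U)), IsFrame (P := F.obj) t := by
  let J := S.smallEtaleTopology
  let η := toSheafify J ((Functor.const S.Etaleᵒᵖ).obj M)
  let C := (CohProp.constSh S M).obj
  let σ : ∀ {W : S.Etale}, (W ⟶ U) → C.obj (op W) → F.obj.obj (op W) := fun a y => θ.inv.hom.app (op (Over.mk a)) y
  let τ : ∀ {W : S.Etale}, (W ⟶ U) → F.obj.obj (op W) → C.obj (op W) := fun a y => θ.hom.hom.app (op (Over.mk a)) y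
  have hστ : ∀ {W : S.Etale} (a : W ⟶ U) y, σ a (τ a y) = y := fun a y =>
    congrArg (fun f => f.hom.app (op (Over.mk a)) y) θ.hom_inv_id
  have hτσ : ∀ {W : S.Etale} (a : W ⟶ U) y, τ a (σ a y) = y := fun a y =>
    congrArg (fun f => f.hom.app (op (Over.mk a)) y) θ.inv_hom_id
  have hσ : ∀ {W W' : S.Etale} (a : W ⟶ U) (b : W' ⟶ W) y,
      F.obj.map b.op (σ a y) = σ (b ≫ a) (C.map b.op y) := fun a b y =>
    (NatTrans.naturality_apply θ.inv.hom (Over.homMk b : Over.mk (b ≫ a) ⟶ Over.mk a).op y).symm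
  have hη : ∀ {W W' : S.Etale} (b : W' ⟶ W) (m : M), C.map b.op (η.app (op W) m) = η.app (op W') m :=
    fun b m => (NatTrans.naturality_apply η b.op m).symm
  have hres : ∀ {W : S.Etale} (a : W ⟶ U) (m : M),
      F.obj.map a.op (σ (𝟙 U) (η.app (op U) m)) = σ a (η.app (op W) m) := fun a m => by
    rw [hσ, Category.comp_id, hη]
  let e := (Finite.equivFin M).symm
  refine ⟨_, fun m => σ (𝟙 U) (η.app (op U) (e m)), ⟨fun W a hW m m' h => e.injective ?_, fun W a s x => ?_⟩⟩
  · rw [hres, hres] at h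
    have h' := congrArg (τ a) h
    rw [hτσ, hτσ] at h'
    obtain ⟨w⟩ := hW
    obtain ⟨Y, f, y, hf, -⟩ := (mem_et_iff W _).1 (Presheaf.equalizerSieve_mem J η _ _ h') w
    exact hf
  · obtain ⟨Y, f, y, ⟨m, hm⟩, hy⟩ := (mem_et_iff W _).1 (Presheaf.imageSieve_mem J η (τ a s)) x
    refine ⟨Y, f, ⟨y, hy⟩, e.symm m, ?_⟩
    rw [e.apply_symm_apply, hres, ← hστ a s, hσ]
    exact congrArg (σ (f ≫ a)) hm

/-- A finite locally constant sheaf of sets is the sheaf of a finite étale scheme. -/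
theorem exists_rep_flcSet (F : EtDesc.Sh S) (hF : CohProp.IsFinLocConstSet F) :
    ∃ (U : S.Etale) (_ : IsFinite U.hom), Nonempty (F ≅ EtDesc.repSh U) := by
  obtain ⟨ι, V, hV, hM⟩ := hF
  have hP : Presieve.IsSheaf S.smallEtaleTopology F.obj := (isSheaf_iff_isSheaf_of_type _ _).1 F.property
  obtain ⟨U, hU, ⟨α⟩⟩ := exists_iso hP (show LocFinite F.obj from ⟨ι, V, fun x => by
    obtain ⟨i, y, hy⟩ := hV x
    exact ⟨i, y, hy⟩, fun i => by
    obtain ⟨M, hM', ⟨θ⟩⟩ := hM i
    exact exists_frame_of_over θ⟩)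
  haveI : IsIso ((sheafificationAdjunction S.smallEtaleTopology (Type (u + 1))).counit.app F) := inferInstance
  exact ⟨U, hU, ⟨(asIso ((sheafificationAdjunction S.smallEtaleTopology (Type (u + 1))).counit.app F)).symm ≪≫
    (presheafToSheaf S.smallEtaleTopology (Type (u + 1))).mapIso α⟩⟩

end Groth.Agent.EtRep3
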