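import Groth.Agent.Lib.EtRep3.Site

/-!
# Representing a sheaf with a finite frame over an étale scheme
-/

universe w u

set_option autoImplicit false
set_option linter.style.haveILetI false
set_option backward.isDefEq.respectTransparency false
set_option backward.isDefEq.respectTransparency.types false

open CategoryTheory CategoryTheory.Limits AlgebraicGeometry Opposite

namespace Groth.Agent.EtRep3

open Groth.Agent.EtSite

variable {X : Scheme.{u}} {P : X.Etaleᵒᵖ ⥤ Type w}

/-- Finitely many sections over `U` which are everywhere distinct and locally exhaust all sections. -/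
structure IsFrame {U : X.Etale} {n : ℕ} (t : Fin n → P.obj (op U)) : Prop where
  ne : ∀ (W : X.Etale) (a : W ⟶ U), Nonempty W.left →
    ∀ m m', P.map a.op (t m) = P.map a.op (t m') → m = m'
  loc : ∀ (W : X.Etale) (a : W ⟶ U) (s : P.obj (op W)) (x : W.left),
    ∃ (W' : X.Etale) (b : W' ⟶ W), x ∈ Set.range b.left ∧ ∃ m, P.map (b ≫ a).op (t m) = P.map b.op s

/-- Étale locally the sheaf has finite frames. -/
def LocFinite (P : X.Etaleᵒᵖ ⥤ Type w) : Prop :=
  ∃ (ι : Type u) (U : ι → X.Etale), (∀ x : X, ∃ i, x ∈ Set.range (U i).hom) ∧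
    ∀ i, ∃ (n : ℕ) (t : Fin n → P.obj (op (U i))), IsFrame t

variable {U : X.Etale} {n : ℕ}

/-- A disjoint union of copies of `U`. -/
noncomputable def copies (U : X.Etale) (n : ℕ) : X.Etale :=
  MorphismProperty.Over.mk ⊤ (Sigma.desc fun _ : ULift.{u} (Fin n) => U.hom)
    (IsZariskiLocalAtSource.sigmaDesc fun _ => U.prop)

noncomputable def inc (U : X.Etale) (n : ℕ) (m : Fin n) : U ⟶ copies U n :=
  MorphismProperty.Over.homMk (Sigma.ι (fun _ : ULift.{u} (Fin n) => U.left) ⟨m⟩) (Sigma.ι_desc _ _)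

noncomputable def proj (U : X.Etale) (n : ℕ) : copies U n ⟶ U :=
  MorphismProperty.Over.homMk (Sigma.desc fun _ : ULift.{u} (Fin n) => 𝟙 U.left)
    (Sigma.hom_ext _ _ fun k => by
      simp only [copies, MorphismProperty.Over.mk_hom, Sigma.ι_desc]
      exact ((Category.assoc _ _ _).symm.trans (congrArg (· ≫ U.hom) (Sigma.ι_desc _ _))).trans
        (Category.id_comp _))

theorem inc_proj (U : X.Etale) (n : ℕ) (m : Fin n) : inc U n m ≫ proj U n = 𝟙 U :=
  MorphismProperty.Over.Hom.ext (Sigma.ι_desc _ _)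

instance isOpenImmersion_inc (U : X.Etale) (n : ℕ) (m : Fin n) : IsOpenImmersion (inc U n m).left :=
  inferInstanceAs (IsOpenImmersion (Sigma.ι (fun _ : ULift.{u} (Fin n) => U.left) ⟨m⟩))

theorem exists_inc (z : (copies U n).left) : ∃ m, z ∈ Set.range (inc U n m).left := by
  obtain ⟨⟨m⟩, w, rfl⟩ := (sigmaOpenCover fun _ : ULift.{u} (Fin n) => U.left).exists_eq z
  exact ⟨m, w, rfl⟩

theorem inc_disjoint {T : Scheme.{u}} {m m' : Fin n} (a b : T ⟶ U.left)
    (h : a ≫ (inc U n m).left = b ≫ (inc U n m').left) : IsEmpty T ∨ (m = m' ∧ a = b) := by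
  rcases SchDesc12.sigma_eq_or_isEmpty (Y := fun _ : ULift.{u} (Fin n) => U.left) a b h with h' | ⟨e, he⟩
  · exact Or.inl h'
  · exact Or.inr ⟨congrArg ULift.down e, by rwa [eqToHom_refl, Category.comp_id] at he⟩

/-- A morphism between open subobjects. -/
noncomputable def subMap (W : X.Etale) {A B : W.left.Opens} (h : A ≤ B) : sub W A ⟶ sub W B :=
  MorphismProperty.Over.homMk (W.left.homOfLE h) (by
    show W.left.homOfLE h ≫ B.ι ≫ W.hom = A.ι ≫ W.hom
    rw [← Category.assoc, Scheme.homOfLE_ι])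

theorem subMap_subHom (W : X.Etale) {A B : W.left.Opens} (h : A ≤ B) :
    subMap W h ≫ subHom W B = subHom W A :=
  MorphismProperty.Over.Hom.ext (Scheme.homOfLE_ι W.left h)

theorem exists_subLift {W V : X.Etale} (b : V ⟶ W) (A : W.left.Opens) (h : Set.range b.left ⊆ A) :
    ∃ c : V ⟶ sub W A, c ≫ subHom W A = b := by
  have hr : Set.range b.left ⊆ Set.range A.ι := by rwa [Scheme.Opens.range_ι]
  haveI hA : IsOpenImmersion A.ι := inferInstance
  refine ⟨MorphismProperty.Over.homMk (IsOpenImmersion.lift A.ι b.left hr) ?_,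
    MorphismProperty.Over.Hom.ext (@IsOpenImmersion.lift_fac _ _ _ A.ι b.left hA hr)⟩
  show IsOpenImmersion.lift A.ι b.left hr ≫ A.ι ≫ W.hom = V.hom
  rw [IsOpenImmersion.lift_fac_assoc, MorphismProperty.Over.w]

variable (hP : Presieve.IsSheaf X.smallEtaleTopology P) {t : Fin n → P.obj (op U)} (ht : IsFrame t)

include hP in
theorem exists_universal_section :
    ∃ s₀ : P.obj (op (copies U n)), ∀ m, P.map (inc U n m).op s₀ = t m := by
  refine (existsUnique_sect hP (fun _ : Fin n => U) (inc U n) exists_inc t fun m m' Z a b hab => ?_).exists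
  rcases inc_disjoint a.left b.left (congrArg (fun f => f.left) hab) with h | ⟨rfl, e⟩
  · exact (subsingleton_sect hP h).elim _ _
  · rw [MorphismProperty.Over.Hom.ext e]

include hP ht in
/-- The disjoint union of copies represents maps to `U` together with a section. -/
theorem exists_local_rep :
    ∃ s₀ : P.obj (op (copies U n)), ∀ (W : X.Etale) (a : W ⟶ U) (s : P.obj (op W)),
      ∃! b : W ⟶ copies U n, b ≫ proj U n = a ∧ P.map b.op s₀ = s := by
  obtain ⟨s₀, hs₀⟩ := exists_universal_section hP (t := t)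
  refine ⟨s₀, fun W a s => ?_⟩
  let good : Fin n → Set W.left := fun m => {x | ∃ (W' : X.Etale) (b : W' ⟶ W),
    x ∈ Set.range b.left ∧ P.map (b ≫ a).op (t m) = P.map b.op s}
  have hopen : ∀ m, IsOpen (good m) := fun m => isOpen_iff_forall_mem_open.2 fun x ⟨W', b, hx, he⟩ =>
    ⟨Set.range b.left, fun y hy => ⟨W', b, hy, he⟩, (haveI := etale_left b; b.left.isOpenMap.isOpen_range), hx⟩
  let N : Fin n → W.left.Opens := fun m => ⟨good m, hopen m⟩
  have hN : ∀ m, P.map (subHom W (N m) ≫ a).op (t m) = P.map (subHom W (N m)).op s := by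
    intro m
    choose W' b hb he using fun x : {x // x ∈ good m} => x.2
    choose c hc using fun x => exists_subLift (b x) (N m) fun y hy => ⟨W' x, b x, hy, he x⟩
    refine sect_ext hP W' c (fun x => ?_) _ _ fun x => ?_
    · obtain ⟨z, hz⟩ := hb ⟨x.1, x.2⟩
      refine ⟨⟨x.1, x.2⟩, z, (N m).ι.isOpenEmbedding.injective ?_⟩
      exact (congrArg (fun f => f.left z) (hc ⟨x.1, x.2⟩)).trans hz
    · rw [map_map, map_map, ← Category.assoc, hc]
      exact he x
  have hdisj : ∀ (V : X.Etale) (v : V ⟶ W), Nonempty V.left → ∀ m m',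
      Set.range v.left ⊆ N m → Set.range v.left ⊆ N m' → m = m' := by
    intro V v hV m m' h h'
    obtain ⟨c, hc⟩ := exists_subLift v _ h
    obtain ⟨c', hc'⟩ := exists_subLift v _ h'
    refine ht.ne V (v ≫ a) hV m m' ?_
    have e := congrArg (P.map c.op) (hN m)
    have e' := congrArg (P.map c'.op) (hN m')
    rw [map_map, map_map, ← Category.assoc, hc] at e
    rw [map_map, map_map, ← Category.assoc, hc'] at e'
    exact e.trans e'.symm
  have hcov : ∀ x : W.left, ∃ m, x ∈ N m := fun x => by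
    obtain ⟨W', b, hx, m, he⟩ := ht.loc W a s x
    exact ⟨m, W', b, hx, he⟩
  have hcov' : ∀ x : W.left, ∃ k : ULift.{u} (Fin n), x ∈ Set.range (subHom W (N k.down)).left := fun x => by
    obtain ⟨m, hm⟩ := hcov x
    exact ⟨⟨m⟩, ⟨x, hm⟩, rfl⟩
  obtain ⟨G, hG, hGu⟩ := existsUnique_hom (E := copies U n) (fun k : ULift.{u} (Fin n) => sub W (N k.down))
    (fun k => subHom W (N k.down)) hcov' (fun k => subHom W (N k.down) ≫ a ≫ inc U n k.down) <| by
      intro k l Z c d hcd
      by_cases hkl : k = l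
      · subst hkl
        rw [show c = d from (cancel_mono (N k.down).ι).1 hcd]
      · refine SchDesc12.hom_eq_of_isEmpty ⟨fun z => hkl ?_⟩ _ _
        let x : W.left := (N k.down).ι (c z)
        let Q : W.left.Opens := N k.down ⊓ N l.down
        have hx : x ∈ Q := ⟨(c z).2, by
          have : x = (N l.down).ι (d z) := congr(($hcd) z)
          rw [this]; exact (d z).2⟩
        refine ULift.ext _ _ (hdisj (sub W Q) (subHom W Q) ⟨⟨x, hx⟩⟩ _ _ ?_ ?_)
        · rintro _ ⟨q, rfl⟩; exact q.2.1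
        · rintro _ ⟨q, rfl⟩; exact q.2.2
  have hGm : ∀ m, subHom W (N m) ≫ G = subHom W (N m) ≫ a ≫ inc U n m := fun m => hG ⟨m⟩
  refine ⟨G, ⟨hom_ext_cover (fun k : ULift.{u} (Fin n) => sub W (N k.down))
    (fun k => subHom W (N k.down)) hcov' _ _ fun k => ?_, ?_⟩, fun b ⟨hb, hbs⟩ => hGu b fun k => ?_⟩
  · rw [← Category.assoc, hGm, Category.assoc, Category.assoc, inc_proj, Category.comp_id]
  · refine sect_ext hP (fun k : ULift.{u} (Fin n) => sub W (N k.down)) _ hcov' _ _ fun k => ?_
    rw [map_map, hGm, ← map_map, ← map_map, hs₀, map_map]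
    exact hN k.down
  · let N' : Fin n → W.left.Opens := fun m => b.left ⁻¹ᵁ (inc U n m).left.opensRange
    have key : ∀ m, subHom W (N' m) ≫ b = subHom W (N' m) ≫ a ≫ inc U n m := by
      intro m
      have hr : Set.range ((N' m).ι ≫ b.left) ⊆ Set.range (inc U n m).left := by
        rintro _ ⟨y, rfl⟩; exact y.2
      let c₀ : (N' m : Scheme.{u}) ⟶ U.left := IsOpenImmersion.lift (inc U n m).left ((N' m).ι ≫ b.left) hr
      have hc₀ : c₀ ≫ (inc U n m).left = (N' m).ι ≫ b.left := IsOpenImmersion.lift_fac _ _ _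
      let c : sub W (N' m) ⟶ U := MorphismProperty.Over.homMk c₀ (by
        show c₀ ≫ U.hom = (N' m).ι ≫ W.hom
        rw [← MorphismProperty.Over.w (inc U n m), ← Category.assoc, hc₀, Category.assoc,
          MorphismProperty.Over.w b])
      have hc : c ≫ inc U n m = subHom W (N' m) ≫ b := MorphismProperty.Over.Hom.ext hc₀
      have : c = subHom W (N' m) ≫ a := by
        rw [← hb, ← Category.assoc, ← hc, Category.assoc, inc_proj, Category.comp_id]
      rw [← hc, this, Category.assoc]
    have hle : ∀ m, N' m ≤ N m := fun m x hx => ⟨sub W (N' m), subHom W (N' m), ⟨⟨x, hx⟩, rfl⟩, by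
      rw [← hbs, map_map, key, ← map_map P (subHom W (N' m)) (a ≫ inc U n m), ← map_map P a (inc U n m), hs₀, map_map]⟩
    let Y : ULift.{u} (Fin n) → X.Etale := fun l => sub W (N' l.down ⊓ N k.down)
    refine hom_ext_cover Y (fun l => subMap W inf_le_right) (fun x => ?_) _ _ fun l => ?_
    · obtain ⟨m, hm⟩ := exists_inc (b.left x.1)
      refine ⟨⟨m⟩, ⟨x.1, ⟨hm, x.2⟩⟩, (N k.down).ι.isOpenEmbedding.injective ?_⟩
      exact congrArg (fun f => f.left (⟨x.1, ⟨hm, x.2⟩⟩ : (N' m ⊓ N k.down : W.left.Opens)))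
        (subMap_subHom W (inf_le_right : N' m ⊓ N k.down ≤ N k.down))
    · by_cases hlk : l = k
      · subst hlk
        rw [← Category.assoc, subMap_subHom, ← subMap_subHom W (inf_le_left : N' l.down ⊓ N l.down ≤ _),
          Category.assoc, key, ← Category.assoc, subMap_subHom,
          ← subMap_subHom W (inf_le_right : N' l.down ⊓ N l.down ≤ _), Category.assoc]
      · refine hom_eq_of_isEmpty ⟨fun z => hlk ?_⟩ _ _
        refine ULift.ext _ _ (hdisj (Y l) (subHom W _) ⟨z⟩ _ _ ?_ ?_)
        · rintro _ ⟨q, rfl⟩; exact hle _ q.2.1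
        · rintro _ ⟨q, rfl⟩; exact q.2.2

end Groth.Agent.EtRep3
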