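import Groth.Agent.Lib.EtRep3.Descend

/-!
# The universal property of the glued representing scheme
-/

universe w u

set_option autoImplicit false
set_option linter.style.haveILetI false
set_option backward.isDefEq.respectTransparency false
set_option backward.isDefEq.respectTransparency.types false

open CategoryTheory CategoryTheory.Limits AlgebraicGeometry Opposite

namespace Groth.Agent.EtRep3

open Groth.Agent.EtSite

variable {X : Scheme.{u}} {P : X.Etaleᵒᵖ ⥤ Type w}

/-- A locally finite sheaf is represented by a finite étale scheme. -/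
theorem exists_rep (hP : Presieve.IsSheaf X.smallEtaleTopology P) (h : LocFinite P) :
    ∃ (U₀ : X.Etale) (_ : IsFinite U₀.hom) (t₀ : P.obj (op U₀)),
      ∀ W : X.Etale, Function.Bijective fun g : W ⟶ U₀ => P.map g.op t₀ := by
  classical
  obtain ⟨ι, U, hU, hloc⟩ := h
  choose n t ht using hloc
  choose s hs using fun i => exists_local_rep hP (ht i)
  let E : ι → X.Etale := fun i => copies (U i) (n i)
  let π : ∀ i, E i ⟶ U i := fun i => proj (U i) (n i)
  have hrep : IsLocalRep U E π s := fun i W a σ => hs i W a σ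
  obtain ⟨U₀, c, hfin, hpb, hc⟩ := exists_glued hrep hU fun i => isFinite_proj (U i) (n i)
  have hcs : ∀ z : U₀.left, ∃ i, z ∈ Set.range (c i).left := by
    intro z
    obtain ⟨i, y, hy⟩ := hU (U₀.hom z)
    obtain ⟨e, -, he⟩ := Scheme.exists_preimage_of_isPullback (hpb i) y z hy
    exact ⟨i, e, he⟩
  have hfac : ∀ {Z : X.Etale} {i : ι} (a : Z ⟶ U i) (g : Z ⟶ U₀), ∃ d : Z ⟶ E i, d ≫ π i = a ∧ d ≫ c i = g := by
    intro Z i a g
    have w : a.left ≫ (U i).hom = g.left ≫ U₀.hom := by
      rw [MorphismProperty.Over.w, MorphismProperty.Over.w]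
    refine ⟨MorphismProperty.Over.homMk ((hpb i).lift a.left g.left w) ?_,
      MorphismProperty.Over.Hom.ext ((hpb i).lift_fst _ _ _), MorphismProperty.Over.Hom.ext ((hpb i).lift_snd _ _ _)⟩
    rw [← MorphismProperty.Over.w (π i), ← Category.assoc, (hpb i).lift_fst, MorphismProperty.Over.w]
  have hback : ∀ {Z : X.Etale} {i j : ι} (a : Z ⟶ E i) (b : Z ⟶ E j), a ≫ c i = b ≫ c j →
      prdLift a (b ≫ π j) ≫ trn hrep i j = b := by
    intro Z i j a b hab
    refine MorphismProperty.Over.Hom.ext ((hpb j).hom_ext ?_ ?_)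
    · refine congrArg (fun f => f.left) (?_ : (prdLift a (b ≫ π j) ≫ trn hrep i j) ≫ π j = b ≫ π j)
      rw [Category.assoc, trn_π, prdLift_p2]
    · refine congrArg (fun f => f.left) (?_ : (prdLift a (b ≫ π j) ≫ trn hrep i j) ≫ c j = b ≫ c j)
      rw [Category.assoc, ← hc, ← Category.assoc, prdLift_p1, hab]
  obtain ⟨t₀, ht₀, -⟩ := existsUnique_sect hP E c hcs s fun i j Z a b hab => by
    rw [← hback a b hab, ← map_map, trn_sect, map_map, prdLift_p1]
  refine ⟨U₀, hfin, t₀, fun W => ⟨fun g g' hgg => ?_, fun σ => ?_⟩⟩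
  · refine hom_ext_cover (fun i => prd W (U i)) (fun i => p1 W (U i)) (fun x => ?_) _ _ fun i => ?_
    · obtain ⟨i, y, hy⟩ := hU (W.hom x)
      obtain ⟨z, hz, -⟩ := Scheme.exists_preimage_of_isPullback (IsPullback.of_hasPullback W.hom (U i).hom) x y hy.symm
      exact ⟨i, z, hz⟩
    · obtain ⟨d, hd, hd'⟩ := hfac (p2 W (U i)) (p1 W (U i) ≫ g)
      obtain ⟨e, he, he'⟩ := hfac (p2 W (U i)) (p1 W (U i) ≫ g')
      rw [← hd', ← he']
      refine congrArg (· ≫ c i) (rep_ext hrep d e (hd.trans he.symm) ?_)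
      rw [← ht₀, map_map, map_map, hd', he', ← map_map, ← map_map]
      exact congrArg (P.map (p1 W (U i)).op) hgg
  · have hex := fun i => (hrep i (prd W (U i)) (p2 W (U i)) (P.map (p1 W (U i)).op σ)).exists
    choose d hd hd' using hex
    have hcov : ∀ x : W.left, ∃ i, x ∈ Set.range (p1 W (U i)).left := fun x => by
      obtain ⟨i, y, hy⟩ := hU (W.hom x)
      obtain ⟨z, hz, -⟩ := Scheme.exists_preimage_of_isPullback (IsPullback.of_hasPullback W.hom (U i).hom) x y hy.symm
      exact ⟨i, z, hz⟩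
    obtain ⟨g, hg, -⟩ := existsUnique_hom (fun i => prd W (U i)) (fun i => p1 W (U i)) hcov
      (fun i => d i ≫ c i) <| by
        intro k l Z a b hab
        have hZ : (a ≫ (p1 W (U k)).left) ≫ W.hom = (b ≫ (p1 W (U l)).left) ≫ W.hom := congrArg (· ≫ W.hom) hab
        -- a single étale object receiving both
        haveI := etale_left (p1 W (U k))
        let Q : X.Etale := MorphismProperty.Over.mk ⊤
          (pullback.snd (p1 W (U k)).left (p1 W (U l)).left ≫ (prd W (U l)).hom)
          (MorphismProperty.comp_mem _ _ _ (MorphismProperty.pullback_snd _ _ (etale_left _)) (prd W (U l)).prop)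
        let q₁ : Q ⟶ prd W (U k) := MorphismProperty.Over.homMk (pullback.fst _ _) (by
          show pullback.fst _ _ ≫ (prd W (U k)).hom = pullback.snd _ _ ≫ (prd W (U l)).hom
          rw [← MorphismProperty.Over.w (p1 W (U k)), ← MorphismProperty.Over.w (p1 W (U l)), ← Category.assoc,
            pullback.condition, Category.assoc])
        let q₂ : Q ⟶ prd W (U l) := MorphismProperty.Over.homMk (pullback.snd _ _) rfl
        have hq : q₁ ≫ p1 W (U k) = q₂ ≫ p1 W (U l) := MorphismProperty.Over.Hom.ext pullback.condition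
        have hsame : P.map (q₁ ≫ d k).op (s k) = P.map (q₂ ≫ d l).op (s l) := by
          rw [← map_map, hd', ← map_map, hd', map_map, map_map, hq]
        have key : (q₁ ≫ d k) ≫ c k = (q₂ ≫ d l) ≫ c l := by
          conv_rhs => rw [← lift_trn_eq hrep (q₁ ≫ d k) (q₂ ≫ d l) hsame]
          rw [Category.assoc (prdLift _ _), ← hc, ← Category.assoc (prdLift _ _), prdLift_p1]
        have := congrArg (fun f => pullback.lift a b hab ≫ f.left) key
        have h₁ : pullback.lift a b hab ≫ q₁.left = a := pullback.lift_fst _ _ _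
        have h₂ : pullback.lift a b hab ≫ q₂.left = b := pullback.lift_snd _ _ _
        show a ≫ (d k).left ≫ (c k).left = b ≫ (d l).left ≫ (c l).left
        refine (congrArg (· ≫ (d k).left ≫ (c k).left) h₁.symm).trans
          (Eq.trans ?_ (congrArg (· ≫ (d l).left ≫ (c l).left) h₂))
        exact (Category.assoc _ _ _).trans ((congrArg (_ ≫ ·) (Category.assoc _ _ _).symm).trans
          (this.trans ((congrArg (_ ≫ ·) (Category.assoc _ _ _)).trans (Category.assoc _ _ _).symm)))
    refine ⟨g, sect_ext hP (fun i => prd W (U i)) (fun i => p1 W (U i)) hcov _ _ fun i => ?_⟩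
    show P.map _ (P.map g.op t₀) = _
    rw [map_map, hg, ← map_map, ht₀, hd']

/-- The representing isomorphism. -/
theorem exists_iso {P : X.Etaleᵒᵖ ⥤ Type (u + 1)} (hP : Presieve.IsSheaf X.smallEtaleTopology P)
    (h : LocFinite P) : ∃ (U₀ : X.Etale) (_ : IsFinite U₀.hom),
      Nonempty (P ≅ yoneda.obj U₀ ⋙ uliftFunctor.{u + 1}) := by
  obtain ⟨U₀, hU₀, t₀, hb⟩ := exists_rep hP h
  refine ⟨U₀, hU₀, ⟨(NatIso.ofComponents (fun W =>
    (Equiv.ulift.trans (Equiv.ofBijective _ (hb W.unop))).toIso) fun {V W} f => ?_).symm⟩⟩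
  ext g
  exact (map_map P f.unop g.down t₀).symm

end Groth.Agent.EtRep3
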